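import Cfsg.Agent.Lib.PG.Gen

set_option autoImplicit false
set_option maxRecDepth 100000
set_option Elab.async false
set_option exponentiation.threshold 100000

namespace Cfsg.Agent.Golay.H1558
open Cfsg.Agent.PG

noncomputable def n0 : Net :=
 (.cons 32 0xf8000000
 (.cons 16 0x3000080f7
 (.cons 8 0x3000000000092
 (.cons 4 0x90401
 (.cons 2 0x1200000000103301
 (.cons 1 0x4100000001141414
 (.cons 2 0x1210000
 (.cons 4 0x300000000000405
 (.cons 8 0x30000008000c8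
 (.cons 16 0x3000080d0
 (.cons 32 0xf8000000
 .nil)))))))))))

noncomputable def n1 : Net :=
 (.cons 32 0x20000000
 (.cons 16 0x20000000243a
 (.cons 8 0x2000040091
 (.cons 4 0x50100
 (.cons 2 0x2130000
 (.cons 1 0x144414414
 (.cons 2 0x2001211
 (.cons 4 0x20a01040a
 (.cons 8 0x2000200049
 (.cons 16 0x20000000225d
 (.cons 32 0x20000000
 .nil)))))))))))

noncomputable def n2 : Net :=
 (.cons 32 0xb8000000
 (.cons 16 0x200100009803
 (.cons 8 0x1002000d80062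
 (.cons 4 0x800000200010200
 (.cons 2 0x2200000000212032
 (.cons 1 0x1100000040044151
 (.cons 2 0x2200000000022002
 (.cons 4 0x200
 (.cons 8 0x1002000500022
 (.cons 16 0x20010000980a
 (.cons 32 0xb8000000
 .nil)))))))))))

noncomputable def n3 : Net :=
 (.cons 16 0xa260
 (.cons 8 0x120090
 (.cons 4 0x2020d05
 (.cons 2 0x301031
 (.cons 1 0x10104444
 (.cons 2 0x10002002
 (.cons 4 0x2020008
 (.cons 8 0xc00021
 (.cons 16 0xa240
 .nil)))))))))

noncomputable def n4 : Net :=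
 (.cons 32 0xc0000000
 (.cons 16 0xc00000006100
 (.cons 8 0xc000600044
 (.cons 4 0xc04060808
 (.cons 2 0x301020201
 (.cons 1 0x14000
 (.cons 2 0x20000
 (.cons 4 0xc04000800
 (.cons 8 0xc000600044
 (.cons 16 0xc00000006100
 (.cons 32 0xc0000000
 .nil)))))))))))

noncomputable def n5 : Net :=
 (.cons 32 0xc0000000
 (.cons 16 0xc00000000010
 (.cons 8 0xc000000089
 (.cons 4 0xc00000608
 (.cons 2 0x300230300
 (.cons 1 0x500054550
 (.cons 4 0xc00000608
 (.cons 8 0xc000000089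
 (.cons 16 0xc00000000010
 (.cons 32 0xc0000000
 .nil))))))))))

noncomputable def n6 : Net :=
 (.cons 16 0x3302
 (.cons 8 0x8a0080
 (.cons 4 0xb020c04
 (.cons 2 0x2110033
 (.cons 1 0x11004405
 (.cons 2 0x20000000
 (.cons 4 0x4
 (.cons 8 0x8a0080
 (.cons 16 0x3302
 .nil)))))))))

noncomputable def n7 : Net :=
 (.cons 16 0x8811
 (.cons 8 0x280061
 (.cons 4 0x1070b
 (.cons 2 0x20021102
 (.cons 1 0x440044
 (.cons 2 0x20020
 (.cons 4 0x4
 (.cons 8 0x200061
 (.cons 16 0x8811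
 .nil)))))))))

noncomputable def n8 : Net :=
 (.cons 16 0x4920
 (.cons 8 0x450050
 (.cons 4 0x1040605
 (.cons 2 0x10233202
 (.cons 1 0x4100440
 (.cons 2 0x200200
 (.cons 4 0x1040604
 (.cons 8 0x40050
 (.cons 16 0x4900
 .nil)))))))))

noncomputable def n9 : Net :=
 (.cons 16 0xa340
 (.cons 8 0xa00000
 (.cons 4 0x2020800
 (.cons 2 0x20330020
 (.cons 1 0x1504040
 (.cons 2 0x20
 (.cons 4 0x2020800
 (.cons 8 0xa00000
 (.cons 16 0xa340
 .nil)))))))))

noncomputable def n10 : Net :=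
 (.cons 16 0x6850
 (.cons 8 0x4a0080
 (.cons 4 0xa040000
 (.cons 2 0x220000
 (.cons 1 0x40010150
 (.cons 2 0x20000
 (.cons 4 0x8000000
 (.cons 8 0x4a0080
 (.cons 16 0x6850
 .nil)))))))))

noncomputable def n11 : Net :=
 (.cons 16 0x860
 (.cons 8 0x80001
 (.cons 4 0x60804
 (.cons 2 0x312201
 (.cons 1 0x504000
 (.cons 2 0x2000
 (.cons 4 0x60804
 (.cons 8 0x1
 (.cons 16 0x840
 .nil)))))))))

noncomputable def A : List Net := [n0, n1, n2, n3, n4, n5, n6, n7, n8, n9, n10, n11]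

theorem hA : okA (2 ^ 6) A = true := by decide +kernel

theorem hlen : A.length = 12 := rfl

def tr6 : List ℕ := [1, 0x112, 0x114, 0x116, 0x11214, 0x11216, 0x11416, 0x1121416
  ]

def ce6 : List (List (ℕ × ℕ)) := [[(1, 1), (2, 1), (3, 1)],
  [(0, 1), (4, 1), (5, 1)],
  [(4, 1), (0, 1), (6, 1)],
  [(5, 1), (6, 1), (0, 1)],
  [(2, 1), (1, 1), (7, 1)],
  [(3, 1), (7, 1), (1, 1)],
  [(7, 1), (3, 1), (2, 1)],
  [(6, 1), (5, 1), (4, 1)]]

noncomputable def cl6_l : List Claim := plainClaims 9 tr6 ce6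

def tr5 : List ℕ := [1, 0x10c, 0x10e, 0x110, 0x10c0e, 0x10c10, 0x10e10, 0x10c0e10
  ]

def ce5 : List (List (ℕ × ℕ)) := [[(1, 1), (2, 1), (3, 1), (0, 0x112), (0, 0x114), (0, 0x116)],
  [(0, 1), (4, 1), (5, 1), (1, 0x112), (1, 0x114), (1, 0x116)],
  [(4, 1), (0, 1), (6, 1), (2, 0x112), (2, 0x114), (2, 0x116)],
  [(5, 1), (6, 1), (0, 1), (3, 0x112), (3, 0x114), (3, 0x116)],
  [(2, 1), (1, 1), (7, 1), (4, 0x112), (4, 0x114), (4, 0x116)],
  [(3, 1), (7, 1), (1, 1), (5, 0x112), (5, 0x114), (5, 0x116)],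
  [(7, 1), (3, 1), (2, 1), (6, 0x112), (6, 0x114), (6, 0x116)],
  [(6, 1), (5, 1), (4, 1), (7, 0x112), (7, 0x114), (7, 0x116)]]

noncomputable def cl5_l : List Claim := plainClaims 6 tr5 ce5

def tr4 : List ℕ := [1, 0x108, 0x10a, 0x1080a]

def ce4 : List (List (ℕ × ℕ)) := [[(1, 1), (2, 1), (0, 0x10c), (0, 0x10e), (0, 0x110), (0, 0x112), (0, 0x114), (0, 0x116)],
  [(0, 1), (3, 1), (1, 0x1160c), (1, 0x112141610), (1, 0x112140e), (1, 0x11216), (1, 0x114), (1, 0x116)],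
  [(3, 1), (0, 1), (2, 0x1140c), (2, 0x1120c0e), (2, 0x112140c10), (2, 0x11214), (2, 0x114), (2, 0x116)],
  [(2, 1), (1, 1), (3, 0x114160c), (3, 0x114160c10), (3, 0x10c0e), (3, 0x1121416), (3, 0x114), (3, 0x116)]]

noncomputable def cl4_l : List Claim := plainClaims 4 tr4 ce4

def tr3 : List ℕ := [1, 0x106, 0x10608, 0x1060a, 0x106080a, 0x106080a06]

def ce3 : List (List (ℕ × ℕ)) := [[(1, 1), (0, 0x108), (0, 0x10a), (0, 0x10c), (0, 0x10e), (0, 0x110), (0, 0x112), (0, 0x114), (0, 0x116)],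
  [(0, 0x112160c0e), (2, 1), (3, 1), (1, 0x112160e), (1, 0x1160c), (1, 0x11210), (1, 0x112), (1, 0x11214), (1, 0x11216)],
  [(2, 0x112161008), (1, 1), (4, 1), (2, 0x10e), (2, 0x1141610), (2, 0x114160c), (2, 0x116), (2, 0x11214), (2, 0x11216)],
  [(3, 0x112140c0e0a), (4, 1), (1, 1), (3, 0x114160e), (3, 0x10c0e), (3, 0x114160e10), (3, 0x114), (3, 0x11214), (3, 0x11216)],
  [(5, 1), (3, 1), (2, 1), (4, 0x112140e), (4, 0x1140e10), (4, 0x1120c0e), (4, 0x1121416), (4, 0x11214), (4, 0x11216)],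
  [(4, 0x1121410), (5, 0x1120c0a), (5, 0x11214160e1008), (5, 0x10e10), (5, 0x114160e), (5, 0x114160c0e), (5, 0x1121416), (5, 0x116), (5, 0x114)]]

noncomputable def cl3_l : List Claim := plainClaims 3 tr3 ce3

def cj2 : List ℕ := [0x11410080a06080a06, 0x10c080a06080a, 0x110, 0x1120e10, 0x112160c, 0x11214, 0x1121416, 0x11416]

def reps2 : List Rep := [⟨1, [(0x106, 0x106), (0x108, 0x108), (0x10a, 0x10a), (0x10c, 0x10c), (0x10e, 0x10e), (0x110, 0x110), (0x112, 0x112), (0x114, 0x114), (0x116, 0x116)],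
   [(1, 1, 1, 1)], 3⟩,
  ⟨0x104, [(0x1140e06, 0x1140c0e10080a), (0x10a0608070b, 0x112140c0a)],
   [(1, 0x10a, 1, 0x10c080a0608),
    (0x10907, 1, 0, 0x114160a0608),
    (0x10b07, 0x1080a, 1, 0x1140e0806080a06)], 2⟩]

noncomputable def cl2_l : List Claim := dcClaims 2 4 cj2 reps2

def tr1 : List ℕ := [1, 0x102]

def ce1 : List (List (ℕ × ℕ)) := [[(1, 1), (0, 0x105), (0, 0x112160c0e06), (0, 0x108), (0, 0x10a), (0, 0x10c), (0, 0x10e), (0, 0x110), (0, 0x112), (0, 0x114), (0, 0x116)],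
  [(0, 0x1160c0e080a06080a0408), (1, 0x11214160e10080a06), (1, 0x1160c10080a060805), (1, 0x114160c0e06040406), (1, 0x114160c0806080a04), (1, 0x1141610), (1, 0x112140c10), (1, 0x1120c0e), (1, 0x114), (1, 0x1121416), (1, 0x116)]]

noncomputable def cl1_l : List Claim := plainClaims 1 tr1 ce1

def tr0 : List ℕ := [1, 0x100, 0x101]

def ce0 : List (List (ℕ × ℕ)) := [[(1, 1), (0, 0x1160c0e080a06080a040802), (0, 0x105), (0, 0x112160c0e06), (0, 0x108), (0, 0x10a), (0, 0x10c), (0, 0x10e), (0, 0x110), (0, 0x112), (0, 0x114), (0, 0x116)],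
  [(2, 0x112140c0e1008060408), (2, 0x1160c0e100a060a040802), (1, 0x1140e10080a060a040408), (1, 0x114160c0e0a), (1, 0x112160c0e06080a0408), (1, 0x114160c0806080a04), (1, 0x112160c10), (1, 0x112140c0e10), (1, 0x1140e), (1, 0x1120c), (1, 0x1121410), (1, 0x1160e)],
  [(0, 1), (1, 0x10e02), (2, 0x114160c10080a0605), (2, 0x1120404), (2, 0x1080a06080a06), (2, 0x112140c1006), (2, 0x114160c10), (2, 0x1160c0e10), (2, 0x1120e10), (2, 0x11214160c10), (2, 0x1160c0e), (2, 0x10c0e10)]]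

noncomputable def cl0_l : List Claim := plainClaims 0 tr0 ce0

theorem cl6_0 : chk A 6 (cl6_l) = true := by decide +kernel

theorem ok6 : plainOK A 9 12 5 tr6 ce6 = true := by decide +kernel

theorem orb6 : orbCardB A 3 9 5 2 8 = true := by decide +kernel

theorem cl5_0 : chk A 6 (cl5_l) = true := by decide +kernel

theorem ok5 : plainOK A 6 9 0 tr5 ce5 = true := by decide +kernel

theorem orb5 : orbCardB A 3 6 0 2 8 = true := by decide +kernel

theorem cl4_0 : chk A 6 (cl4_l) = true := by decide +kernel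

theorem ok4 : plainOK A 4 6 30 tr4 ce4 = true := by decide +kernel

theorem orb4 : orbCardB A 3 4 30 2 4 = true := by decide +kernel

theorem cl3_0 : chk A 6 (cl3_l) = true := by decide +kernel

theorem ok3 : plainOK A 3 4 28 tr3 ce3 = true := by decide +kernel

theorem orb3 : orbCardB A 3 3 28 3 6 = true := by decide +kernel

theorem cl2_0 : chk A 6 (cl2_l) = true := by decide +kernel

theorem ok2 : dcOK A 2 4 27 28 3 cj2 reps2 = true := by decide +kernel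

theorem orb2 : orbCardB A 3 2 27 3 7 = true := by decide +kernel

theorem cl1_0 : chk A 6 (cl1_l) = true := by decide +kernel

theorem ok1 : plainOK A 1 2 25 tr1 ce1 = true := by decide +kernel

theorem orb1 : orbCardB A 3 1 25 2 2 = true := by decide +kernel

theorem cl0_0 : chk A 6 (cl0_l) = true := by decide +kernel

theorem ok0 : plainOK A 0 1 24 tr0 ce0 = true := by decide +kernel

theorem orb0 : orbCardB A 3 0 24 2 3 = true := by decide +kernel

theorem card7 : Nat.card (K A 12) = 1 := card_K_last A (le_of_eq hlen)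

theorem cl6 : ∀ c ∈ cl6_l, Holds A c :=
  (chk_spec hA cl6_0)

theorem stab6 : StabIs A 9 5 12 := stabIs_plain hA ok6 cl6

theorem card6 : Nat.card (K A 9) = 8 := card_K_step hA stab6 orb6 card7

theorem cl5 : ∀ c ∈ cl5_l, Holds A c :=
  (chk_spec hA cl5_0)

theorem stab5 : StabIs A 6 0 9 := stabIs_plain hA ok5 cl5

theorem card5 : Nat.card (K A 6) = 64 := card_K_step hA stab5 orb5 card6

theorem cl4 : ∀ c ∈ cl4_l, Holds A c :=
  (chk_spec hA cl4_0)

theorem stab4 : StabIs A 4 30 6 := stabIs_plain hA ok4 cl4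

theorem card4 : Nat.card (K A 4) = 256 := card_K_step hA stab4 orb4 card5

theorem cl3 : ∀ c ∈ cl3_l, Holds A c :=
  (chk_spec hA cl3_0)

theorem stab3 : StabIs A 3 28 4 := stabIs_plain hA ok3 cl3

theorem card3 : Nat.card (K A 3) = 1536 := card_K_step hA stab3 orb3 card4

theorem cl2 : ∀ c ∈ cl2_l, Holds A c :=
  (chk_spec hA cl2_0)

theorem stab2 : StabIs A 2 27 3 := stabIs_dc hA stab3 ok2 cl2

theorem card2 : Nat.card (K A 2) = 10752 := card_K_step hA stab2 orb2 card3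

theorem cl1 : ∀ c ∈ cl1_l, Holds A c :=
  (chk_spec hA cl1_0)

theorem stab1 : StabIs A 1 25 2 := stabIs_plain hA ok1 cl1

theorem card1 : Nat.card (K A 1) = 21504 := card_K_step hA stab1 orb1 card2

theorem cl0 : ∀ c ∈ cl0_l, Holds A c :=
  (chk_spec hA cl0_0)

theorem stab0 : StabIs A 0 24 1 := stabIs_plain hA ok0 cl0

theorem card0 : Nat.card (K A 0) = 64512 := card_K_step hA stab0 orb0 card1

theorem fixTriv0 {B : Set ℕ} (h0 : 24 ∈ B) (h1 : 25 ∈ B) (h2 : 27 ∈ B) (h3 : 28 ∈ B) (h4 : 30 ∈ B) (h5 : 0 ∈ B) (h6 : 5 ∈ B) : FixTriv (K A 0) B :=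
  fixTriv_step stab0 h0 <| fixTriv_step stab1 h1 <| fixTriv_step stab2 h2 <| fixTriv_step stab3 h3 <| fixTriv_step stab4 h4 <| fixTriv_step stab5 h5 <| fixTriv_step stab6 h6 <| fixTriv_last A (le_of_eq hlen) B

theorem fixTriv1 {B : Set ℕ} (h1 : 25 ∈ B) (h2 : 27 ∈ B) (h3 : 28 ∈ B) (h4 : 30 ∈ B) (h5 : 0 ∈ B) (h6 : 5 ∈ B) : FixTriv (K A 1) B :=
  fixTriv_step stab1 h1 <| fixTriv_step stab2 h2 <| fixTriv_step stab3 h3 <| fixTriv_step stab4 h4 <| fixTriv_step stab5 h5 <| fixTriv_step stab6 h6 <| fixTriv_last A (le_of_eq hlen) B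

theorem fixTriv2 {B : Set ℕ} (h2 : 27 ∈ B) (h3 : 28 ∈ B) (h4 : 30 ∈ B) (h5 : 0 ∈ B) (h6 : 5 ∈ B) : FixTriv (K A 2) B :=
  fixTriv_step stab2 h2 <| fixTriv_step stab3 h3 <| fixTriv_step stab4 h4 <| fixTriv_step stab5 h5 <| fixTriv_step stab6 h6 <| fixTriv_last A (le_of_eq hlen) B

theorem fixTriv3 {B : Set ℕ} (h3 : 28 ∈ B) (h4 : 30 ∈ B) (h5 : 0 ∈ B) (h6 : 5 ∈ B) : FixTriv (K A 3) B :=
  fixTriv_step stab3 h3 <| fixTriv_step stab4 h4 <| fixTriv_step stab5 h5 <| fixTriv_step stab6 h6 <| fixTriv_last A (le_of_eq hlen) B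

theorem fixTriv4 {B : Set ℕ} (h4 : 30 ∈ B) (h5 : 0 ∈ B) (h6 : 5 ∈ B) : FixTriv (K A 4) B :=
  fixTriv_step stab4 h4 <| fixTriv_step stab5 h5 <| fixTriv_step stab6 h6 <| fixTriv_last A (le_of_eq hlen) B

theorem fixTriv5 {B : Set ℕ} (h5 : 0 ∈ B) (h6 : 5 ∈ B) : FixTriv (K A 6) B :=
  fixTriv_step stab5 h5 <| fixTriv_step stab6 h6 <| fixTriv_last A (le_of_eq hlen) B

theorem fixTriv6 {B : Set ℕ} (h6 : 5 ∈ B) : FixTriv (K A 9) B :=
  fixTriv_step stab6 h6 <| fixTriv_last A (le_of_eq hlen) B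


end Cfsg.Agent.Golay.H1558
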